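import Groth.Agent.Lib.KSix19.RpushAmp.Stalk
import Groth.Agent.Lib.KSix19.BettiExact.Proj
import Groth.Agent.Lib.KSix19.ExtTensorPC
import Groth.Agent.Lib.RelAmp22.Charts
import Groth.Agent.Lib.OX.RRLocal
import Groth.Agent.Lib.OX.HomVanish
import Groth.Agent.Lib.OX.Adjunction
import Groth.Agent.Lib.RpushSupp20.Main

/-! # Tor amplitude of a derived direct image -/

set_option autoImplicit false
set_option maxHeartbeats 1600000
set_option backward.isDefEq.respectTransparency false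
set_option linter.style.haveILetI false
universe u

open CategoryTheory CategoryTheory.Limits AlgebraicGeometry HomologicalComplex

attribute [local instance] HasDerivedCategory.standard

namespace GrothLib.KSix19.RpushAmp

open GrothLib.OX GrothLib.KSix19 GrothLib.KSix19.BettiExact

variable {X Y S : Scheme.{u}}

/-- The projection formula on objects with quasi-coherent cohomology. -/
theorem exists_proj_model_D (f : X ⟶ Y) [QuasiCompact f] [QuasiSeparated f] [DCoh.HasLpull f] [DCoh.HasRpush f]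
    (F : CochainComplex X.Modules ℤ) [DCoh.HasLTensorCx F] (hq : DCoh.IsQCohD (DCoh.toD X F)) :
    ∃ (B : CochainComplex Y.Modules ℤ) (_ : DCoh.HasLTensorCx B),
      Nonempty (DerivedCategory.Q.obj B ≅ (DCoh.Rpush f).obj (DCoh.toD X F)) ∧
      ∀ K : DCoh.D Y, DCoh.IsQCohD K → Nonempty ((DCoh.LTensorCx B).obj K ≅
        (DCoh.Rpush f).obj ((DCoh.LTensorCx F).obj ((DCoh.Lpull f).obj K))) := by
  obtain ⟨A, a, ha, hA, hA'⟩ := KInj.exists_kInjective_resolution _ F
  let eA : DerivedCategory.Q.obj A ≅ DCoh.toD X F := (asIso (DerivedCategory.Q.map a)).symm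
  have hAq : DCoh.IsQCohD (DerivedCategory.Q.obj A) := isQCohD_of_iso' eA.symm hq
  have := hasLTensorCx A
  let B := (pushCxF f).obj A
  have := hasLTensorCx B
  obtain ⟨c⟩ := nonempty_ltensorCx_congr_of_iso (E := A) (E' := F) eA
  have hu : IsIso (pushUnit f A) :=
    map_isIso_of (DCoh.pushKh f)
      (KInj.isIso_unit_of_rightOrthogonal (CochainComplex.IsKInjective.rightOrthogonal A))
  let eB : DerivedCategory.Q.obj B ≅ (DCoh.Rpush f).obj (DCoh.toD X F) :=
    ((DerivedCategory.quotientCompQhIso Y.Modules).app B).symm ≪≫ @asIso _ _ _ _ _ hu ≪≫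
      (SiteDer.Rres (rmor f)).mapIso ((DerivedCategory.quotientCompQhIso X.Modules).app A ≪≫ eA) ≪≫
        ((rpushIsoRres f).app _).symm
  obtain ⟨τ⟩ := nonempty_proj_iso f A ⟨hA', hA⟩ hAq
  obtain ⟨T⟩ := nonempty_iso_of_kflat (DCoh.LTensorCx B) (DCoh.Lpull f ⋙ DCoh.LTensorCx A ⋙ DCoh.Rpush f) τ
  exact ⟨B, inferInstance, ⟨eB⟩, fun K hK =>
    ⟨T.app ⟨K, hK⟩ ≪≫ (DCoh.Rpush f).mapIso (c.app _)⟩⟩

theorem isQCohD_inD (M : Y.Modules) (h : Coh.IsQCoh M) : DCoh.IsQCohD (DCoh.inD Y M) :=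
  exists_proj_model.isQCohD_single M h

/-- Tor amplitude restricted to opens. -/
theorem torAmplitude_restrict {p : X ⟶ S} {U : Scheme.{u}} (j : U ⟶ X) [IsOpenImmersion j] {S' : Scheme.{u}}
    (k : S' ⟶ S) [IsOpenImmersion k] (g : U ⟶ S') (hg : g ≫ k = j ≫ p) {F : CochainComplex X.Modules ℤ} {a b : ℤ}
    (hF : ∀ x : U, DerSch.HasTorAmplitudeAt p a b F (j x)) :
    DerSch.HasTorAmplitude g a b ((resCx j).obj F) := by
  refine (RelAmp22.hasTorAmplitude_iff g a b _).2 fun x => RelAmp22.ampAt_of_iso g ((resDFac j).app F) ?_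
  refine (RelAmp22.ampAt_comp_openImmersion g k _ x).1 ?_
  rw [hg]
  refine (RelAmp22.ampAt_resD_iff p j _ x).2 ?_
  exact (RelAmp22.ampAt_Q_iff p F (j x)).2
    (amp_of_iso (DerivedCategory.Q.mapIso ((NatIso.mapHomologicalComplex
      (Functor.isoWhiskerRight (stalkFunctorIso (j x)) (ModuleCat.restrictScalars (p.stalkMap (j x)).hom))
      (ComplexShape.up ℤ)).app F)) (hF x))

/-- The bound `a` on the affine base. -/
theorem torAmplitude_Rpush_affine (q : Y ⟶ S) (f : X ⟶ Y) [QuasiCompact f] [QuasiSeparated f]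
    [QuasiSeparatedSpace S] [DCoh.HasRpush f] (F : CochainComplex X.Modules ℤ) (hqc : DCoh.IsQCohD (DCoh.toD X F))
    {a b b' : ℤ} (hF : DerSch.HasTorAmplitude (f ≫ q) a b F) (B' : CochainComplex Y.Modules ℤ)
    (eB' : DCoh.toD Y B' ≅ (DCoh.Rpush f).obj (DCoh.toD X F)) [(DCoh.toD Y B').IsLE b'] :
    DerSch.HasTorAmplitude q a b' B' := by
  haveI := hasLpull f
  haveI := hasLpull q
  haveI := hasLpull (f ≫ q)
  haveI := hasLTensorCx F
  haveI := hasLTensorCx B'
  obtain ⟨B, _, ⟨eB⟩, hB⟩ := exists_proj_model_D f F hqc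
  obtain ⟨c⟩ := nonempty_ltensorCx_congr_of_iso (E := B') (E' := B) (eB' ≪≫ eB.symm)
  refine amp_of_vanish q B' fun M hM i hi => ?_
  let K := (DCoh.Lpull q).obj (DCoh.inD S M)
  haveI : (DCoh.inD S M).IsLE 0 := inferInstance
  obtain ⟨w⟩ := hB K (qcoh_isLE_lpull q (isQCohD_inD M hM) 0).1
  let Z := (DCoh.LTensorCx F).obj ((DCoh.Lpull f).obj K)
  have hZ : Z.IsGE a := (DerivedCategory.isGE_iff _ a).2 fun j hj => by
    let G := (HomologicalComplex.single S.Modules (ComplexShape.up ℤ) 0).obj M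
    let e₀ : DCoh.inD S M ≅ DCoh.toD S G := (DerivedCategory.singleFunctorIsoCompQ S.Modules 0).app M
    haveI : (DCoh.toD S G).IsLE 0 := DerivedCategory.TStructure.t.isLE_of_iso e₀ 0
    have hG : ∀ k : ℤ, k < 0 ∨ 0 < k → G.ExactAt k := fun k hk =>
      HomologicalComplex.ExactAt.of_isZero (HomologicalComplex.isZero_single_obj_X _ _ _ _ (by omega))
    exact (isZero_HD_ltensor_lpull (f ≫ q) hF G hG (i := j) (by omega)).of_iso
      ((DerivedCategory.homologyFunctor _ j).mapIso ((DCoh.LTensorCx F).mapIso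
        ((lpullCompIso f q).app (DCoh.inD S M) ≪≫ (DCoh.Lpull (f ≫ q)).mapIso e₀)))
  haveI : ((SiteDer.Rres (rmor f)).obj Z).IsGE a := SiteDer.isGE_Rres (rmor f) Z a
  exact (DerivedCategory.isZero_of_isGE ((SiteDer.Rres (rmor f)).obj Z) a i hi).of_iso
    ((DerivedCategory.homologyFunctor _ i).mapIso (c.app K ≪≫ w ≪≫ (rpushIsoRres f).app Z))

theorem ampAt_iff_at (p : X ⟶ S) (F : CochainComplex X.Modules ℤ) (a b : ℤ) (x : X) :
    DerSch.HasTorAmplitudeAt p a b F x ↔ RelAmp22.AmpAt p a b (DerivedCategory.Q.obj F) x := by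
  let e : DRing.toD ((DerSch.stalkCxOver p x).obj F) ≅ DRing.toD ((RelAmp22.relStalkCx p x).obj F) :=
    DerivedCategory.Q.mapIso ((NatIso.mapHomologicalComplex
      (Functor.isoWhiskerRight (stalkFunctorIso x) (ModuleCat.restrictScalars (p.stalkMap x).hom))
      (ComplexShape.up ℤ)).app F)
  exact ⟨fun h => (RelAmp22.ampAt_Q_iff p F x).2 (amp_of_iso e h),
    fun h => amp_of_iso e.symm ((RelAmp22.ampAt_Q_iff p F x).1 h)⟩

/-- **Tor amplitude of `Rf_*`** over any base, given the upper bound. -/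
theorem torAmplitudeD_Rpush (p : X ⟶ S) (q : Y ⟶ S) (f : X ⟶ Y) (w : f ≫ q = p) [QuasiCompact f] [QuasiSeparated f]
    [DCoh.HasRpush f] (F : CochainComplex X.Modules ℤ) (hqc : DCoh.IsQCohD (DCoh.toD X F)) {a b b' : ℤ}
    (W₀ : Y.Opens) (hF : ∀ x ∈ f ⁻¹ᵁ W₀, DerSch.HasTorAmplitudeAt p a b F x)
    (hLE : ∀ i : ℤ, b' < i → IsZero ((Scheme.Modules.restrictFunctor W₀.ι).obj
      (DCoh.HD ((DCoh.Rpush f).obj (DCoh.toD X F)) i)))
    (B : CochainComplex Y.Modules ℤ) (eB : DCoh.toD Y B ≅ (DCoh.Rpush f).obj (DCoh.toD X F))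
    {y : Y} (hy : y ∈ W₀) :
    DerSch.HasTorAmplitudeAt q a b' B y := by
  subst w
  obtain ⟨V, hV, hyV, -⟩ := exists_isAffineOpen_mem_and_subset (x := q y) (U := ⊤) trivial
  haveI : IsAffine (V : Scheme.{u}) := hV
  let W : Y.Opens := q ⁻¹ᵁ V ⊓ W₀
  let U : X.Opens := f ⁻¹ᵁ W
  let fW := f ∣_ W
  let qW : (W : Scheme.{u}) ⟶ V := q.resLE V W inf_le_left
  have hqW : qW ≫ V.ι = W.ι ≫ q := Scheme.Hom.resLE_comp_ι _ _
  haveI : QuasiCompact fW := inferInstance
  haveI : QuasiSeparated fW := inferInstance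
  haveI : DCoh.HasRpush fW := KInj.hasRightDerivedFunctor _
  let FU := (resCx U.ι).obj F
  let B' := (resCx W.ι).obj B
  have hqU : DCoh.IsQCohD (DCoh.toD (U : Scheme.{u}) FU) :=
    isQCohD_of_iso' ((resDFac U.ι).app F) (isQCohD_resD U.ι hqc)
  have hamp : DerSch.HasTorAmplitude (fW ≫ qW) a b FU := by
    refine torAmplitude_restrict (p := f ≫ q) U.ι V.ι (fW ≫ qW) ?_ fun x => hF _ (show f x.1 ∈ W₀ from x.2.2)
    rw [Category.assoc, hqW, ← Category.assoc, morphismRestrict_ι, Category.assoc]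
  let eB' : DCoh.toD (W : Scheme.{u}) B' ≅ (DCoh.Rpush fW).obj (DCoh.toD (U : Scheme.{u}) FU) :=
    ((resDFac W.ι).app B).symm ≪≫ (resD W.ι).mapIso (eB ≪≫ (rpushIsoRres f).app _) ≪≫
      (resDRRBaseChange f W).app (DCoh.toD X F) ≪≫
        (RR fW).mapIso ((resDFac U.ι).app F) ≪≫ ((rpushIsoRres fW).app _).symm
  haveI : (DCoh.toD (W : Scheme.{u}) B').IsLE b' := by
    refine (DerivedCategory.isLE_iff _ _).2 fun i hi => IsZero.of_iso ?_
      ((DerivedCategory.homologyFunctor _ i).mapIso (((resDFac W.ι).app B).symm ≪≫ (resD W.ι).mapIso eB) ≪≫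
        HDResIso W.ι _ i)
    exact IsZero.of_iso ((Scheme.Modules.restrictFunctor (Y.homOfLE (inf_le_right : W ≤ W₀))).map_isZero (hLE i hi))
      (((Scheme.Modules.restrictFunctorComp (Y.homOfLE (inf_le_right : W ≤ W₀)) W₀.ι).symm ≪≫
        Scheme.Modules.restrictFunctorCongr (Y.homOfLE_ι inf_le_right)).app _).symm
  have key := torAmplitude_Rpush_affine qW fW FU hqU hamp (b' := b') B' eB'
  let z : (W : Scheme.{u}) := ⟨y, hyV, hy⟩
  have h1 := RelAmp22.ampAt_of_iso qW ((resDFac W.ι).app B).symm ((ampAt_iff_at qW B' a b' z).1 (key z))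
  have h2 := (RelAmp22.ampAt_comp_openImmersion qW V.ι _ z).2 h1
  rw [hqW] at h2
  exact (ampAt_iff_at q B a b' y).2 ((RelAmp22.ampAt_resD_iff q W.ι _ z).1 h2)

/-- A bound on modules bounds `Rf_*` on bounded complexes. -/
theorem isZero_Rres_of_mod (f : X ⟶ Y) (N : ℤ)
    (hN : ∀ M : X.Modules, Coh.IsQCoh M → ∀ i : ℤ, N < i →
      IsZero (DCoh.HD ((SiteDer.Rres (rmor f)).obj (DCoh.inD X M)) i)) (m : ℕ) :
    ∀ (E : DCoh.D X) (a : ℤ) [E.IsGE a] [E.IsLE (a + m)], DCoh.IsQCohD E →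
      ∀ j, a + m + N < j → IsZero (DCoh.HD ((SiteDer.Rres (rmor f)).obj E) j) := by
  haveI := RpushSupp20.hasInjectiveResolutions X
  haveI : (SiteDer.Rres (rmor f)).IsTriangulated := SiteDer.isTriangulated_res_map (rmor f).push
  have single : ∀ (E : DCoh.D X) (b : ℤ) [E.IsGE b] [E.IsLE b], DCoh.IsQCohD E →
      ∀ j, b + N < j → IsZero (DCoh.HD ((SiteDer.Rres (rmor f)).obj E) j) := fun E b _ _ hE j hj => by
    obtain ⟨e⟩ := DerTrunc.nonempty_iso_single E b
    refine IsZero.of_iso (SiteDer.isZero_homology_Rres_single (rmor f) (N := N) _ (fun p hp => ?_) j b (by omega))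
      ((DerivedCategory.homologyFunctor _ j).mapIso ((SiteDer.Rres (rmor f)).mapIso e))
    exact (hN _ (hE b) p hp).of_iso (SiteDer.nonempty_homology_Rres_single (rmor f) _ p).some.symm
  induction m with
  | zero =>
    intro E a _ hLE hE j hj
    haveI : E.IsLE a := by simpa using hLE
    exact single E a hE j (by push_cast at hj; omega)
  | succ m ih =>
    intro E a hGE hLE hE j hj
    obtain ⟨b, hb⟩ : ∃ b, b = a + (m + 1 : ℕ) := ⟨_, rfl⟩
    rw [← hb] at hLE
    let t := DerivedCategory.TStructure.t (C := X.Modules)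
    haveI : ((t.truncLT b).obj E).IsLE (a + m) := t.isLE_truncLT_obj E b (a + m) (by omega)
    haveI : ((t.truncLT b).obj E).IsGE a := inferInstanceAs (t.IsGE ((t.truncLT b).obj E) a)
    haveI : ((t.truncGE b).obj E).IsGE b := inferInstanceAs (t.IsGE ((t.truncGE b).obj E) b)
    haveI : ((t.truncGE b).obj E).IsLE b := inferInstanceAs (t.IsLE ((t.truncGE b).obj E) b)
    exact (DerivedCategory.HomologySequence.exact₂ _
      ((SiteDer.Rres (rmor f)).map_distinguished _ (t.triangleLTGE_distinguished b E)) j).isZero_of_both_isZero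
      (ih ((t.truncLT b).obj E) a (isQCohD_truncLT hE b) j (by omega))
      (single ((t.truncGE b).obj E) b (isQCohD_truncGE hE b) j (by omega))

theorem isZero_Rres_of_mod' (f : X ⟶ Y) (N : ℤ)
    (hN : ∀ M : X.Modules, Coh.IsQCoh M → ∀ i : ℤ, N < i →
      IsZero (DCoh.HD ((SiteDer.Rres (rmor f)).obj (DCoh.inD X M)) i))
    (E : DCoh.D X) (c b : ℤ) [E.IsGE c] [E.IsLE b] (hE : DCoh.IsQCohD E) (j : ℤ) (hj : b + N < j) :
    IsZero (DCoh.HD ((SiteDer.Rres (rmor f)).obj E) j) := by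
  haveI : E.IsGE (min c b) := (DerivedCategory.isGE_iff _ _).2 fun i hi =>
    DerivedCategory.isZero_of_isGE E c i (lt_of_lt_of_le hi (min_le_left _ _))
  have hle := min_le_right c b
  haveI : E.IsLE (min c b + ((b - min c b).toNat : ℕ)) := (DerivedCategory.isLE_iff _ _).2 fun i hi =>
    DerivedCategory.isZero_of_isLE E b i (by omega)
  exact isZero_Rres_of_mod f N hN (b - min c b).toNat E (min c b) hE j (by omega)

/-- Near every point of the target the cohomology of `Rf_*` of a bounded object is bounded above. -/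
theorem exists_bound_near (f : X ⟶ Y) [QuasiCompact f] [QuasiSeparated f] [DCoh.HasRpush f] (E : DCoh.D X) (c d : ℤ)
    [E.IsGE c] [E.IsLE d] (hE : DCoh.IsQCohD E) (W : Y.Opens) (hW : IsCompact (W : Set Y)) :
    ∃ b' : ℤ, ∀ i : ℤ, b' < i →
      IsZero ((Scheme.Modules.restrictFunctor W.ι).obj (DCoh.HD ((DCoh.Rpush f).obj E) i)) := by
  haveI : CompactSpace W := isCompact_iff_compactSpace.mp hW
  obtain ⟨N, hN⟩ := exists_bound_Rres (f ∣_ W)
  let U := f ⁻¹ᵁ W
  let EU := (resD U.ι).obj E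
  haveI : EU.IsGE c := (DerivedCategory.isGE_iff _ _).2 fun k hk =>
    ((Scheme.Modules.restrictFunctor U.ι).map_isZero (DerivedCategory.isZero_of_isGE E c k hk)).of_iso (HDResIso U.ι E k)
  haveI : EU.IsLE d := (DerivedCategory.isLE_iff _ _).2 fun k hk =>
    ((Scheme.Modules.restrictFunctor U.ι).map_isZero (DerivedCategory.isZero_of_isLE E d k hk)).of_iso (HDResIso U.ι E k)
  refine ⟨d + N, fun i hi => ?_⟩
  exact (isZero_Rres_of_mod' (f ∣_ W) N
      (fun M hM i hi => hN _ (isQCohD_inD M hM) inferInstance i hi.le) EU c d (isQCohD_resD U.ι hE) i hi).of_iso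
    ((HDResIso W.ι _ i).symm ≪≫ (DerivedCategory.homologyFunctor _ i).mapIso
      ((resD W.ι).mapIso ((rpushIsoRres f).app E) ≪≫ (resDRRBaseChange f W).app E))

/-- The upper end of a tor amplitude is the top cohomological degree. -/
theorem amp_sharpen {A : Type u} [CommRing A] {K : Dual.D A} {a b b' : ℤ} (h : DRing.HasTorAmplitudeIn A a b K)
    (hb : ∀ i, b' < i → Subsingleton (Dual.HD A K i)) : DRing.HasTorAmplitudeIn A a b' K := by
  haveI : ∀ N : ModuleCat.{u} A, DRing.HasLTensor A N := fun N => KF.hasLTensor N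
  refine (KF.hasTorAmplitudeIn_iff_lTensor _ a b').2 fun N i hi => ?_
  rcases hi with hi | hi
  · exact (KF.hasTorAmplitudeIn_iff_lTensor _ a b).1 h N i (Or.inl hi)
  obtain ⟨E, hEv, hEp, ⟨eE⟩⟩ := DR.exists_projective_rep K b' hb
  obtain ⟨v⟩ := KF.lTensor_value N (KF.isKFlat_of_vanishesAbove hEv (DR.termwiseFlat_of_projective hEp))
  refine DR.subsingleton_HD_of_iso ((DRing.LTensor _ N).mapIso eE.symm ≪≫ v).symm i ?_
  exact (DR.exactAt_iff _ i).1 (ShortComplex.exact_of_isZero_X₂ _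
    ((MonoidalCategory.tensorRight N).map_isZero (hEv i hi)))

/-- Locally finite tor dimension is tor dimension at most some `n` near every point. -/
theorem exists_torDim_near {f : X ⟶ Y} (hf : DerSch.LocFiniteTorDim f) (x : X) :
    ∃ (V : X.Opens) (n : ℕ), x ∈ V ∧ ∀ x' ∈ V, DerSch.HasTorAmplitudeAt f (-(n : ℤ)) 0 (DerSch.unitCx X) x' := by
  obtain ⟨V, a, b, hx, hV⟩ := hf x
  refine ⟨V, (-a).toNat, hx, fun x' hx' => (hasTorAmplitudeAt_unit_iff' f x' _ _).2 ?_⟩
  have h := (hasTorAmplitudeAt_unit_iff' f x' a b).1 (hV x' hx')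
  let K := Dual.inD (Y.presheaf.stalk (f x')) ((ModuleCat.restrictScalars.{u} (f.stalkMap x').hom).obj
    (ModuleCat.of (X.presheaf.stalk x') (X.presheaf.stalk x')))
  haveI : K.IsLE 0 := inferInstanceAs (((DerivedCategory.singleFunctor _ 0).obj _).IsLE 0)
  exact amp_mono (by omega) le_rfl (amp_sharpen h fun i hi =>
    ModuleCat.subsingleton_of_isZero (DerivedCategory.isZero_of_isLE K 0 i hi))

/-- `Rf_*` preserves locally finite tor amplitude over the base. -/
theorem locFinite_Rpush (p : X ⟶ S) (q : Y ⟶ S) (f : X ⟶ Y) (w : f ≫ q = p) [QuasiCompact f] [QuasiSeparated f]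
    [DCoh.HasRpush f] (F : CochainComplex X.Modules ℤ) (hqc : DCoh.IsQCohD (DCoh.toD X F)) (c d : ℤ)
    [(DCoh.toD X F).IsGE c] [(DCoh.toD X F).IsLE d] (hF : DerSch.LocFiniteTorAmplitude p F) :
    DerSch.LocFiniteTorAmplitudeD q ((DCoh.Rpush f).obj (DCoh.toD X F)) := by
  rintro B ⟨eB⟩ y
  obtain ⟨W, hW, hy, -⟩ := exists_isAffineOpen_mem_and_subset (x := y) (U := ⊤) trivial
  choose V a b hx hV using hF
  obtain ⟨t, ht⟩ := (f.isCompact_preimage hW.isCompact).elim_finite_subcover (fun x => ((V x : X.Opens) : Set X))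
    (fun x => (V x).isOpen) fun x _ => Set.mem_iUnion.2 ⟨x, hx x⟩
  obtain ⟨A, hA⟩ : ∃ A : ℤ, ∀ x ∈ t, A ≤ a x := by
    obtain ⟨A, hA⟩ := (t.image a).bddBelow
    exact ⟨A, fun x hx => hA (Finset.mem_coe.2 (Finset.mem_image_of_mem a hx))⟩
  obtain ⟨B₁, hB₁⟩ : ∃ B₁ : ℤ, ∀ x ∈ t, b x ≤ B₁ := by
    obtain ⟨B₁, hB⟩ := (t.image b).bddAbove
    exact ⟨B₁, fun x hx => hB (Finset.mem_coe.2 (Finset.mem_image_of_mem b hx))⟩
  obtain ⟨b', hb'⟩ := exists_bound_near f (DCoh.toD X F) c d hqc W hW.isCompact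
  refine ⟨W, A, b', hy, fun y' hy' => torAmplitudeD_Rpush p q f w F hqc W (a := A) (b := B₁) (fun x hxW => ?_) hb' B eB hy'⟩
  obtain ⟨z, hz, hxz⟩ := Set.mem_iUnion₂.1 (ht hxW)
  exact amp_mono (hA z hz) (hB₁ z hz) (hV z x hxz)

end GrothLib.KSix19.RpushAmp
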