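import Groth.Agent.Lib.KSix19.TensorStalk
import Groth.Agent.Lib.OX.QCohStalk
import Groth.Agent.Lib.DCxKFlat.Balance
import Groth.Agent.Lib.DCxKFlat.BaseChange
import Groth.Agent.Lib.DCxRing.Basic

/-! # Tor amplitude over the base is detected by quasi-coherent test modules -/

set_option autoImplicit false
set_option maxHeartbeats 1000000
set_option backward.isDefEq.respectTransparency false
set_option linter.style.haveILetI false
universe u

open CategoryTheory CategoryTheory.Limits AlgebraicGeometry HomologicalComplex MonoidalCategory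

attribute [local instance] HasDerivedCategory.standard

namespace GrothLib.KSix19.RpushAmp

open GrothLib.OX GrothLib.KSix19

variable {Y S : Scheme.{u}}

/-- Tor amplitude over the base from vanishing of `H^i(Lq^*M ⊗^L B)`, `i < a`, and an upper bound. -/
theorem amp_of_vanish (q : Y ⟶ S) [QuasiSeparatedSpace S] (B : CochainComplex Y.Modules ℤ) {a b : ℤ}
    [(DCoh.toD Y B).IsLE b] [DCoh.HasLpull q] [DCoh.HasLTensorCx B]
    (h : ∀ M : S.Modules, Coh.IsQCoh M → ∀ i : ℤ, i < a →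
      IsZero (DCoh.HD ((DCoh.LTensorCx B).obj ((DCoh.Lpull q).obj (DCoh.inD S M))) i)) :
    DerSch.HasTorAmplitude q a b B := by
  intro y
  let β := (q.stalkMap y).hom
  let K' : DRing.Cx (S.presheaf.stalk (q y)) := (DRing.restrictCx β).obj ((stalkCx y).obj B)
  obtain ⟨a₁⟩ := nonempty_stalkCxOver q y B
  suffices hK : DRing.HasTorAmplitudeIn (S.presheaf.stalk (q y)) a b (DRing.toD K') from
    amp_of_iso (a₁ ≪≫ DR.restrictToDIso β _).symm hK
  haveI : ∀ N : ModuleCat.{u} (S.presheaf.stalk (q y)), DRing.HasLTensor (S.presheaf.stalk (q y)) N :=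
    fun N => KF.hasLTensor N
  have hb : ∀ i, b < i → K'.ExactAt i := fun i hi => by
    have h0 : IsZero (B.homology i) :=
      (DerivedCategory.isZero_of_isLE _ b i hi).of_iso (hdIso B i).symm
    exact (show ((stalkCx y).obj B).ExactAt i from (exactAt_iff_isZero_homology _ i).2
      (((stalk y).map_isZero h0).of_iso ((B.sc i).mapHomologyIso (stalk y)))).map (ModuleCat.restrictScalars β)
  refine (KF.hasTorAmplitudeIn_iff_lTensor _ a b).2 fun N i hi => ?_
  rcases hi with hi | hi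
  swap
  · obtain ⟨E, hEv, hEp, ⟨eE⟩⟩ := DR.exists_projective_rep (DRing.toD K') b
      (fun j hj => (DR.exactAt_iff _ j).1 (hb j hj))
    obtain ⟨v⟩ := KF.lTensor_value N (KF.isKFlat_of_vanishesAbove hEv (DR.termwiseFlat_of_projective hEp))
    refine DR.subsingleton_HD_of_iso ((DRing.LTensor _ N).mapIso eE.symm ≪≫ v).symm i ?_
    exact (DR.exactAt_iff _ i).1 (ShortComplex.exact_of_isZero_X₂ _ ((tensorRight N).map_isZero (hEv i hi)))
  obtain ⟨M, hM, ⟨eM⟩⟩ := exists_qcoh_stalk (q y) N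
  let G := (HomologicalComplex.single S.Modules (ComplexShape.up ℤ) 0).obj M
  let e₀ : DCoh.inD S M ≅ DCoh.toD S G := (DerivedCategory.singleFunctorIsoCompQ S.Modules 0).app M
  haveI : (DCoh.toD S G).IsLE 0 :=
    DerivedCategory.TStructure.t.isLE_of_iso e₀ 0
  obtain ⟨P, t, hP, hflat, ⟨eP⟩⟩ := exists_flat_rep G 0
  have hK : DCoh.IsKFlat P := OX.isKFlat_of_bounded_above P t hP hflat
  let P' := ((Scheme.Modules.pullback q).mapHomologicalComplex (ComplexShape.up ℤ)).obj P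
  let Ps := (stalkCx (q y)).obj P
  obtain ⟨v⟩ := OX.lpull_value q P hK
  obtain ⟨w⟩ := OX.ltensorCx_value B P' (OX.isKFlat_pullback q hK)
  let T := ((DCoh.tensorCx (X := Y)).obj P').obj B
  let u : DerivedCategory.Q.obj T ≅ (DCoh.LTensorCx B).obj ((DCoh.Lpull q).obj (DCoh.inD S M)) :=
    w.symm ≪≫ (DCoh.LTensorCx B).mapIso (v.symm ≪≫ (DCoh.Lpull q).mapIso (eP ≪≫ e₀.symm))
  have hT : IsZero (T.homology i) :=
    (h M hM i hi).of_iso ((hdIso T i).symm ≪≫ (DerivedCategory.homologyFunctor _ i).mapIso u)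
  let s' : (stalkCx y).obj T ≅
      ((KF.tensorCx (R := Y.presheaf.stalk y)).obj ((stalkCx y).obj B)).obj ((DR.bc β).obj Ps) :=
    stalkTensorCxIso y P' B ≪≫ KF.tensorCxSymm _ _ ≪≫ ((KF.tensorCx (R := Y.presheaf.stalk y)).obj _).mapIso
      ((NatIso.mapHomologicalComplex (pullStalkIso q y) (ComplexShape.up ℤ)).app P)
  have h1 : (((KF.tensorCx (R := Y.presheaf.stalk y)).obj ((stalkCx y).obj B)).obj ((DR.bc β).obj Ps)).ExactAt i :=
    (KF.exactAt_iff_of_iso s' i).1 ((exactAt_iff_isZero_homology _ i).2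
      (((stalk y).map_isZero hT).of_iso ((T.sc i).mapHomologyIso (stalk y))))
  rw [← KF.exactAt_restrict_iff β] at h1
  have h2 : (((KF.tensorCx (R := S.presheaf.stalk (q y))).obj K').obj Ps).ExactAt i :=
    (KF.exactAt_iff_of_iso (KF.baseChangeTensorIso β ((stalkCx y).obj B) Ps) i).1 h1
  have hKs : KF.IsKFlat Ps :=
    KF.isKFlat_of_vanishesAbove (fun k hk => (stalk (q y)).map_isZero (hP k hk))
      (fun k => (GrothLib.OX.flat_iff _).1 (hflat k) (q y))
  obtain ⟨E, r, hE, -, hr, -⟩ := KF.exists_kflat_resolution K'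
  haveI := hr
  let eE : DRing.toD E ≅ DRing.toD K' := asIso (DerivedCategory.Q.map r)
  haveI := KF.hasLTensorCx Ps
  haveI := KF.hasLTensorCx E
  obtain ⟨v₁⟩ := KF.lTensorCx_value_of_isKFlat Ps hKs E
  obtain ⟨v₂⟩ := KF.lTensorCx_value_of_isKFlat Ps hKs K'
  let eK : DRing.toD (((KF.tensorCx (R := S.presheaf.stalk (q y))).obj E).obj Ps) ≅
      DRing.toD (((KF.tensorCx (R := S.presheaf.stalk (q y))).obj K').obj Ps) :=
    v₁.symm ≪≫ (DRing.LTensorCx _ Ps).mapIso eE ≪≫ v₂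
  let S₀ := (HomologicalComplex.single (ModuleCat.{u} (S.presheaf.stalk (q y))) (ComplexShape.up ℤ) 0).obj N
  obtain ⟨ePs⟩ := nonempty_stalkCx_iso (q y) eP
  let eS : DRing.toD Ps ≅ DRing.toD S₀ := ePs ≪≫ DerivedCategory.Q.mapIso
    ((HomologicalComplex.singleMapHomologicalComplex (stalk (q y)) (ComplexShape.up ℤ) 0).app M ≪≫
      (HomologicalComplex.single _ (ComplexShape.up ℤ) 0).mapIso eM)
  obtain ⟨w₁⟩ := KF.lTensorCx_value_of_isKFlat E hE Ps
  obtain ⟨w₂⟩ := KF.lTensorCx_value_of_isKFlat E hE S₀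
  let eN : DRing.toD (((KF.tensorCx (R := S.presheaf.stalk (q y))).obj E).obj S₀) ≅
      DRing.toD (((KF.tensorCx (R := S.presheaf.stalk (q y))).obj E).obj Ps) :=
    DerivedCategory.Q.mapIso (KF.tensorCxSymm _ _) ≪≫ w₂.symm ≪≫ (DRing.LTensorCx _ E).mapIso eS.symm ≪≫ w₁ ≪≫
      DerivedCategory.Q.mapIso (KF.tensorCxSymm _ _)
  obtain ⟨v₃⟩ := KF.lTensor_value N hE
  refine DR.subsingleton_HD_of_iso ((DRing.LTensor _ N).mapIso eE.symm ≪≫ v₃ ≪≫
    DerivedCategory.Q.mapIso (KF.singleIso E N) ≪≫ eN ≪≫ eK).symm i ?_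
  exact (DR.exactAt_iff _ i).1 h2

end GrothLib.KSix19.RpushAmp
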